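import Mathlib
import Cfsg.Agent.S0071
import Cfsg.Agent.S0183

/-!
# Groups in which every non-abelian subgroup is self-normalising

In a simple one the Sylow subgroups are abelian and the centralisers are abelian; one of odd order
would be a CN-group, so there is none.
-/

set_option autoImplicit false
set_option linter.style.haveILetI false

namespace Cfsg.Agent.Lib.SelfNormalizing

open Subgroup

universe u

variable {G : Type*} [Group G]

/-- A subgroup with two non-commuting elements. -/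
def NonAb (H : Subgroup G) : Prop := ∃ a ∈ H, ∃ b ∈ H, ¬ Commute a b

/-- Every non-abelian subgroup is self-normalising. -/
def HSN (G : Type*) [Group G] : Prop :=
  ∀ H : Subgroup G, NonAb H → normalizer (H : Set G) = H

theorem nonAb_iff (H : Subgroup G) : NonAb H ↔ ¬ IsMulCommutative ↥H := by
  constructor
  · rintro ⟨a, ha, b, hb, hab⟩ h
    exact hab (congrArg Subtype.val (mul_comm' (⟨a, ha⟩ : H) ⟨b, hb⟩))
  · intro h
    by_contra hno
    exact h ⟨⟨fun a b => Subtype.ext (by
      by_contra hne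
      exact hno ⟨a, a.2, b, b.2, hne⟩)⟩⟩

theorem commute_of_not_nonAb {H : Subgroup G} (h : ¬ NonAb H) {a b : G} (ha : a ∈ H)
    (hb : b ∈ H) : Commute a b := by
  by_contra hne
  exact h ⟨a, ha, b, hb, hne⟩

theorem nonAb_mono {H K : Subgroup G} (hle : H ≤ K) (h : NonAb H) : NonAb K := by
  obtain ⟨a, ha, b, hb, hab⟩ := h
  exact ⟨a, hle ha, b, hle hb, hab⟩

/-- A proper subgroup normalised by a non-abelian subgroup containing it is abelian. -/
theorem commute_of_normal (h : HSN G) {X K : Subgroup G} (hKX : K ≤ X)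
    (hXK : X ≤ normalizer (K : Set G)) (hne : K ≠ X) {a b : G} (ha : a ∈ K) (hb : b ∈ K) :
    Commute a b := by
  by_contra hab
  rw [h K ⟨a, ha, b, hb, hab⟩] at hXK
  exact hne (le_antisymm hKX hXK)

theorem normalizer_le_normalizer_cent (Q : Subgroup G) :
    normalizer (Q : Set G) ≤ normalizer ((centralizer (Q : Set G) : Subgroup G) : Set G) := by
  intro g hg
  rw [mem_normalizer_iff]
  intro a
  rw [mem_centralizer_iff, mem_centralizer_iff]
  constructor
  · intro ha b hb
    have h1 : Commute (g⁻¹ * b * g) a := ha _ ((mem_normalizer_iff''.mp hg b).mp hb)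
    have h2 := h1.map (MulAut.conj g).toMonoidHom
    simpa [mul_assoc, commute_iff_eq] using h2
  · intro ha b hb
    have h1 : Commute (g * b * g⁻¹) (g * a * g⁻¹) := ha _ ((mem_normalizer_iff.mp hg b).mp hb)
    have h2 := h1.map (MulAut.conj g).symm.toMonoidHom
    simpa [mul_assoc, commute_iff_eq] using h2

theorem cyclic_subgroup_ext {C : Type*} [Group C] [Finite C] [IsCyclic C] {H K : Subgroup C}
    (h : Nat.card H = Nat.card K) : H = K := by
  classical
  haveI := Fintype.ofFinite C
  have key : ∀ L : Subgroup C, Finset.univ.filter (fun a : C => a ∈ L) =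
      Finset.univ.filter fun a : C => a ^ Nat.card L = 1 := by
    intro L
    refine Finset.eq_of_subset_of_card_le (fun a ha => ?_) ?_
    · simp only [Finset.mem_filter, Finset.mem_univ, true_and] at ha ⊢
      exact orderOf_dvd_iff_pow_eq_one.mp (Subgroup.orderOf_dvd_natCard L ha)
    · refine (IsCyclic.card_pow_eq_one_le Nat.card_pos).trans (le_of_eq ?_)
      rw [Nat.card_eq_fintype_card, Fintype.card_subtype]
  ext a
  have h2 : Finset.univ.filter (fun a : C => a ∈ H) = Finset.univ.filter fun a : C => a ∈ K := by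
    rw [key, key, h]
  simpa using Finset.ext_iff.mp h2 a

/-! ### Inheritance -/

theorem HSN.of_injective {G' : Type*} [Group G'] (h : HSN G) (f : G' →* G)
    (hf : Function.Injective f) : HSN G' := by
  intro H hH
  obtain ⟨a, ha, b, hb, hab⟩ := hH
  have hmap : NonAb (H.map f) := ⟨f a, mem_map_of_mem f ha, f b, mem_map_of_mem f hb,
    fun hc => hab (hf (by rw [map_mul, map_mul]; exact hc.eq))⟩
  refine le_antisymm (fun x hx => ?_) le_normalizer
  have hx' : f x ∈ normalizer ((H.map f : Subgroup G) : Set G) :=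
    le_normalizer_map f (mem_map_of_mem f hx)
  rw [h _ hmap] at hx'
  obtain ⟨y, hy, hyx⟩ := hx'
  exact hf hyx ▸ hy

theorem HSN.of_surjective {G' : Type*} [Group G'] (h : HSN G) (f : G →* G')
    (hf : Function.Surjective f) : HSN G' := by
  intro H hH
  obtain ⟨a, ha, b, hb, hab⟩ := hH
  obtain ⟨a', rfl⟩ := hf a
  obtain ⟨b', rfl⟩ := hf b
  have hc : NonAb (H.comap f) := ⟨a', ha, b', hb, fun hcc => hab (hcc.map f)⟩
  refine comap_injective hf ?_
  rw [comap_normalizer_eq_of_surjective H hf, h _ hc]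

/-! ### The simple case -/

variable [Finite G]

theorem not_isPGroup_of_simple [IsSimpleGroup G] (hna : ¬ IsMulCommutative G) {p : ℕ}
    [Fact p.Prime] : ¬ IsPGroup p G := by
  intro hp
  haveI : Nontrivial (center G) := hp.center_nontrivial
  rcases (inferInstance : (center G).Normal).eq_bot_or_eq_top with h | h
  · exact (nontrivial_iff_ne_bot _).mp inferInstance h
  · exact hna ⟨⟨fun a b => mem_center_iff.mp (h ▸ mem_top b) a⟩⟩

theorem ne_top_of_isPGroup [IsSimpleGroup G] (hna : ¬ IsMulCommutative G) {p : ℕ}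
    [Fact p.Prime] {Q : Subgroup G} (hQ : IsPGroup p ↥Q) : Q ≠ ⊤ := fun h =>
  not_isPGroup_of_simple hna ((hQ.of_equiv (MulEquiv.subgroupCongr h)).of_equiv topEquiv)

omit [Finite G] in
theorem normalizer_ne_top [IsSimpleGroup G] {Q : Subgroup G} (hQb : Q ≠ ⊥) (hQt : Q ≠ ⊤) :
    normalizer (Q : Set G) ≠ ⊤ := by
  intro h
  rcases (normalizer_eq_top_iff.mp h).eq_bot_or_eq_top with h' | h'
  · exact hQb h'
  · exact hQt h'

/-- A simple group with a cyclic Sylow 2-subgroup has order at most two. -/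
theorem card_le_two_of_cyclic_sylow_two [IsSimpleGroup G] (P : Sylow 2 G)
    (hP : IsCyclic ↥(P : Subgroup G)) (heven : 2 ∣ Nat.card G) :
    (P : Subgroup G) = ⊤ := by
  have hmin : (Nat.card G).minFac = 2 := (Nat.minFac_eq_two_iff _).mpr heven
  set hN := IsCyclic.normalizer_le_centralizer hmin hP
  have hc := MonoidHom.ker_transferSylow_isComplement' P hN
  rcases (MonoidHom.normal_ker (MonoidHom.transferSylow P hN)).eq_bot_or_eq_top with h | h
  · rw [h] at hc
    exact isComplement'_bot_left.mp hc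
  · rw [h] at hc
    have h1 : (P : Subgroup G) = ⊥ := isComplement'_top_left.mp hc
    exact absurd (P.dvd_card_of_dvd_card heven) (by rw [h1]; simp)

/-- No proper section is simple with a Sylow `p`-subgroup of order `p` and a non-trivial `p'`-element. -/
def SecHyp (p : ℕ) (G : Type*) [Group G] : Prop :=
  ∀ (X : Subgroup G) (N : Subgroup ↥X) [N.Normal], X ≠ ⊤ → IsSimpleGroup (↥X ⧸ N) →
    ∀ R : Sylow p (↥X ⧸ N), Nat.card ↥(R : Subgroup (↥X ⧸ N)) = p →
    ∀ g : ↥X ⧸ N, g ≠ 1 → (orderOf g).Coprime p → False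

omit [Finite G] in
/-- The Sylow subgroups of a simple group of this kind are abelian. -/
theorem sylow_commute [Finite G] [IsSimpleGroup G] (hna : ¬ IsMulCommutative G) (h : HSN G)
    {p : ℕ} [Fact p.Prime] (hsec : SecHyp p G) (P : Sylow p G) :
    ¬ NonAb (P : Subgroup G) := by
  classical
  intro hPna
  -- Frobenius
  obtain ⟨Q₀, hQ₀P, g, hgN, hgo, hgC⟩ : ∃ Q₀ : Subgroup G, Q₀ ≤ (P : Subgroup G) ∧
      ∃ g ∈ normalizer (Q₀ : Set G), (orderOf g).Coprime p ∧ g ∉ centralizer (Q₀ : Set G) := by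
    by_contra hno
    push Not at hno
    obtain ⟨N, hN, hc⟩ := (S0071.result P).mpr hno
    rcases hN.eq_bot_or_eq_top with hNb | hNt
    · rw [hNb] at hc
      exact ne_top_of_isPGroup hna P.2 (isComplement'_bot_left.mp hc)
    · rw [hNt] at hc
      have hb := isComplement'_top_left.mp hc
      obtain ⟨a, ha, b, hb', hab⟩ := hPna
      rw [hb, mem_bot] at ha hb'
      exact hab (by rw [ha, hb'])
  have hQ₀p : IsPGroup p ↥Q₀ := P.2.to_le hQ₀P
  have hgQ₀ : g ∉ Q₀ := by
    intro hg
    obtain ⟨k, hk⟩ := hQ₀p ⟨g, hg⟩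
    have h1 : orderOf g ∣ p ^ k :=
      orderOf_dvd_of_pow_eq_one (by simpa using congrArg Subtype.val hk)
    have h2 : orderOf g = 1 := Nat.eq_one_of_dvd_coprimes (hgo.pow_right k) dvd_rfl h1
    rw [orderOf_eq_one_iff] at h2
    exact hgC (h2 ▸ one_mem _)
  obtain ⟨q₁, hq₁, hq₁g⟩ : ∃ q₁ ∈ Q₀, ¬ Commute q₁ g := by
    by_contra hno
    push Not at hno
    exact hgC (mem_centralizer_iff.mpr fun q hq => (hno q hq).eq)
  -- the centraliser of `Q₀` is abelian
  have hC₀ : ∀ {a b : G}, a ∈ centralizer (Q₀ : Set G) → b ∈ centralizer (Q₀ : Set G) →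
      Commute a b := fun ha hb =>
    commute_of_normal h (centralizer_le_normalizer _) (normalizer_le_normalizer_cent _)
      (fun e => hgC (e ▸ hgN)) ha hb
  have hQ₀C : Q₀ ≤ centralizer (Q₀ : Set G) := by
    intro a ha
    refine mem_centralizer_iff.mpr fun b hb => ?_
    have hne : Q₀ ≠ normalizer (Q₀ : Set G) := fun e => hgQ₀ (e.symm ▸ hgN)
    exact (commute_of_normal h le_normalizer le_rfl hne hb ha).eq
  -- the `p`-part `Q` of the centraliser
  set C := centralizer (Q₀ : Set G) with hCdef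
  let Q : Subgroup G :=
    { carrier := {a | a ∈ C ∧ ∃ k : ℕ, a ^ p ^ k = 1}
      one_mem' := ⟨one_mem _, 0, one_pow _⟩
      mul_mem' := by
        rintro a b ⟨ha, k, hk⟩ ⟨hb, l, hl⟩
        refine ⟨mul_mem ha hb, k + l, ?_⟩
        rw [(hC₀ ha hb).mul_pow, pow_add, pow_mul, hk, one_pow, one_mul, mul_comm (p ^ k), pow_mul,
          hl, one_pow]
      inv_mem' := by
        rintro a ⟨ha, k, hk⟩
        exact ⟨inv_mem ha, k, by rw [inv_pow, hk, inv_one]⟩ }
  have hQ₀Q : Q₀ ≤ Q := fun a ha => ⟨hQ₀C ha, by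
    obtain ⟨k, hk⟩ := hQ₀p ⟨a, ha⟩
    exact ⟨k, by simpa using congrArg Subtype.val hk⟩⟩
  have hQp : IsPGroup p ↥Q := fun a => by
    obtain ⟨k, hk⟩ := a.2.2
    exact ⟨k, Subtype.ext (by simpa using hk)⟩
  have hQC : Q ≤ C := fun a ha => ha.1
  set X := normalizer (Q : Set G) with hX
  have hgX : g ∈ X := by
    have hgC' : ∀ a, a ∈ C ↔ g * a * g⁻¹ ∈ C := fun a =>
      mem_normalizer_iff.mp (normalizer_le_normalizer_cent _ hgN) a
    rw [hX, mem_normalizer_iff]
    intro a
    show (a ∈ C ∧ _) ↔ (g * a * g⁻¹ ∈ C ∧ _)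
    rw [← hgC']
    simp only [conj_pow, conj_eq_one_iff]
  have hXna : NonAb X := ⟨q₁, le_normalizer (hQ₀Q hq₁), g, hgX, hq₁g⟩
  have hCQ : centralizer (Q : Set G) = C := by
    refine le_antisymm (centralizer_le (fun a ha => hQ₀Q ha)) fun a ha => ?_
    exact mem_centralizer_iff.mpr fun b hb => (hC₀ (hQC hb) ha).eq
  have hCX : C ≤ X := hCQ ▸ centralizer_le_normalizer _
  have hXC : X ≤ normalizer (C : Set G) := by
    rw [← hCQ]
    exact (normalizer_le_normalizer_cent _)
  have hgnC : g ∉ C := fun hg => hgC hg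
  have hXtop : X ≠ ⊤ :=
    normalizer_ne_top (fun hb => by
        have := hQ₀Q hq₁
        rw [hb, mem_bot] at this
        exact hq₁g (this ▸ Commute.one_left g))
      (ne_top_of_isPGroup hna hQp)
  -- `X/C` is simple
  set N : Subgroup ↥X := C.subgroupOf X with hN
  haveI hNn : N.Normal := normal_subgroupOf_of_le_normalizer hXC
  have hnt : Nontrivial (↥X ⧸ N) :=
    ⟨⟨QuotientGroup.mk (s := N) ⟨g, hgX⟩, 1, fun e => hgnC ((QuotientGroup.eq_one_iff (N := N) ⟨g, hgX⟩).mp e)⟩⟩
  have hsimp : IsSimpleGroup (↥X ⧸ N) := by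
    refine IsSimpleGroup.mk fun W hW => ?_
    by_contra hno
    push Not at hno
    set W' : Subgroup ↥X := W.comap (QuotientGroup.mk' N) with hW'
    haveI : W'.Normal := hW.comap _
    have hNW : N ≤ W' := fun a ha => by
      rw [hW', mem_comap, QuotientGroup.mk'_apply, (QuotientGroup.eq_one_iff a).mpr ha]
      exact one_mem _
    have hne : W'.map X.subtype ≠ X := by
      intro e
      refine hno.2 ((comap_injective (QuotientGroup.mk'_surjective N)) ?_)
      rw [comap_top, ← hW']
      refine map_injective X.subtype_injective ?_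
      rw [e, ← MonoidHom.range_eq_map, range_subtype]
    have hnorm : X ≤ normalizer ((W'.map X.subtype : Subgroup G) : Set G) := by
      intro x hx
      exact le_normalizer_map X.subtype ⟨⟨x, hx⟩, (normalizer_eq_top (H := W')).symm ▸ mem_top _, rfl⟩
    refine hno.1 (eq_bot_iff.mpr fun w hw => ?_)
    obtain ⟨w', rfl⟩ := QuotientGroup.mk'_surjective N w
    refine mem_bot.mpr ((QuotientGroup.eq_one_iff _).mpr ?_)
    show (w' : G) ∈ C
    rw [← hCQ]
    refine mem_centralizer_iff.mpr fun b hb => ?_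
    exact (commute_of_normal h (map_subtype_le _) hnorm hne
      ⟨⟨b, hCX (hQC hb)⟩, hNW (hQC hb), rfl⟩ ⟨w', hw, rfl⟩).eq
  -- a Sylow subgroup of `X`
  obtain ⟨P', hP'⟩ := hQp.exists_le_sylow
  have hP'na : NonAb (P' : Subgroup G) := by
    obtain ⟨c, hc⟩ := MulAction.exists_smul_eq G P P'
    obtain ⟨a, ha, b, hb, hab⟩ := hPna
    rw [← hc, Sylow.coe_subgroup_smul]
    exact ⟨_, smul_mem_pointwise_smul a _ _ ha, _, smul_mem_pointwise_smul b _ _ hb, fun e => hab (by
      have h2 : Commute (c⁻¹ * (c * a * c⁻¹) * c) (c⁻¹ * (c * b * c⁻¹) * c) := by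
        simpa using e.map (MulAut.conj c).symm.toMonoidHom
      rwa [show c⁻¹ * (c * a * c⁻¹) * c = a by group,
        show c⁻¹ * (c * b * c⁻¹) * c = b by group] at h2)⟩
  have hQne : Q ≠ (P' : Subgroup G) := by
    intro e
    obtain ⟨a, ha, b, hb, hab⟩ := hP'na
    rw [← e] at ha hb
    exact hab (hC₀ (hQC ha) (hQC hb))
  obtain ⟨x, hxP, hxX, hxQ⟩ : ∃ x ∈ (P' : Subgroup G), x ∈ X ∧ x ∉ Q := by
    haveI := P'.2.isNilpotent
    have hlt : Q.subgroupOf (P' : Subgroup G) < ⊤ :=
      lt_top_iff_ne_top.mpr fun e => hQne (le_antisymm hP' (subgroupOf_eq_top.mp e))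
    obtain ⟨x, hx, hxn⟩ := SetLike.exists_of_lt (Group.normalizerCondition_of_isNilpotent _ hlt)
    refine ⟨x, x.2, ?_, fun h' => hxn h'⟩
    rw [hX, mem_normalizer_iff]
    intro a
    rw [mem_normalizer_iff] at hx
    constructor
    · intro ha
      exact (hx ⟨a, hP' ha⟩).mp ha
    · intro ha
      have hax : a ∈ (P' : Subgroup G) := by
        have := mul_mem (mul_mem (inv_mem x.2) (hP' ha)) x.2
        simpa [mul_assoc] using this
      exact (hx ⟨a, hax⟩).mpr ha
  set Qx : Subgroup ↥X := Q.subgroupOf X with hQx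
  have hQxp : IsPGroup p ↥Qx := hQp.of_equiv (subgroupOfEquivOfLe le_normalizer).symm
  haveI hQxn : Qx.Normal := normal_subgroupOf_of_le_normalizer le_rfl
  have hxp : IsPGroup p ↥(zpowers (⟨x, hxX⟩ : ↥X)) := by
    obtain ⟨k, hk⟩ := P'.2 ⟨x, hxP⟩
    obtain ⟨m, -, hm⟩ := (Nat.dvd_prime_pow (Fact.out : p.Prime)).mp
      (orderOf_dvd_of_pow_eq_one (x := (⟨x, hxX⟩ : ↥X)) (n := p ^ k)
        (Subtype.ext (by simpa using congrArg Subtype.val hk)))
    exact IsPGroup.of_card (n := m) (by rw [Nat.card_zpowers, hm])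
  obtain ⟨R, hR⟩ := (hQxp.to_sup_of_normal_left hxp).exists_le_sylow
  have hQR : Qx ≤ (R : Subgroup ↥X) := le_sup_left.trans hR
  have hxR : (⟨x, hxX⟩ : ↥X) ∈ (R : Subgroup ↥X) := hR (mem_sup_right (mem_zpowers _))
  have hRN : ∀ r ∈ (R : Subgroup ↥X), r ∈ N → r ∈ Qx := by
    intro r hr hrN
    obtain ⟨k, hk⟩ := R.2 ⟨r, hr⟩
    exact ⟨hrN, k, by simpa using congrArg (fun z : ↥(R : Subgroup ↥X) => ((z : ↥X) : G)) hk⟩
  -- `Q` has index `p` in `R`
  have hindex : Qx.relIndex (R : Subgroup ↥X) = p := by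
    haveI := R.2.isNilpotent
    set Qr := Qx.subgroupOf (R : Subgroup ↥X) with hQr
    have hQrtop : Qr ≠ ⊤ := fun e => hxQ (subgroupOf_eq_top.mp e hxR)
    obtain ⟨M, hM, hQrM⟩ :=
      ((IsCoatomic.eq_top_or_exists_le_coatom Qr).resolve_left hQrtop)
    have hMn : M.Normal := Subgroup.NormalizerCondition.normal_of_coatom M
      (Group.normalizerCondition_of_isNilpotent) hM
    have hMab : ∀ a ∈ M, ∀ b ∈ M, Commute a b := by
      intro a ha b hb
      refine Subtype.ext (Subtype.ext ?_)
      set M' : Subgroup G := M.map (X.subtype.comp (R : Subgroup ↥X).subtype) with hM'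
      have hle : M' ≤ (R : Subgroup ↥X).map X.subtype := by
        rintro _ ⟨m, hm, rfl⟩
        exact ⟨m.1, m.2, rfl⟩
      have hnorm : (R : Subgroup ↥X).map X.subtype ≤ normalizer (M' : Set G) := by
        rintro _ ⟨r, hr, rfl⟩
        exact le_normalizer_map _ ⟨⟨r, hr⟩, (normalizer_eq_top (H := M)).symm ▸ mem_top _, rfl⟩
      have hne : M' ≠ (R : Subgroup ↥X).map X.subtype := by
        intro e
        apply hM.1
        refine map_injective (f := X.subtype.comp (R : Subgroup ↥X).subtype)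
          (fun a b h => Subtype.ext (Subtype.ext h)) ?_
        rw [← hM', e, ← MonoidHom.range_eq_map, MonoidHom.range_comp, range_subtype]
      exact (commute_of_normal h hle hnorm hne ⟨a, ha, rfl⟩ ⟨b, hb, rfl⟩).eq
    have hMQ : M ≤ Qr := by
      intro m hm
      refine hRN _ m.2 ?_
      show ((m : ↥X) : G) ∈ C
      rw [← hCQ]
      refine mem_centralizer_iff.mpr fun b hb => ?_
      have := hMab ⟨⟨b, le_normalizer hb⟩, hQR hb⟩ (hQrM hb) m hm
      exact congrArg (fun z : ↥(R : Subgroup ↥X) => ((z : ↥X) : G)) this.eq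
    have hco : IsCoatom Qr := le_antisymm hMQ hQrM ▸ hM
    haveI : Qr.Normal := Subgroup.NormalizerCondition.normal_of_coatom Qr
      (Group.normalizerCondition_of_isNilpotent) hco
    have hp' : IsPGroup p (↥(R : Subgroup ↥X) ⧸ Qr) := R.2.to_quotient Qr
    obtain ⟨n, hn⟩ := IsPGroup.iff_card.mp hp'
    rcases Nat.eq_zero_or_pos n with hn0 | hn0
    · refine absurd ?_ hQrtop
      rw [← index_eq_one]
      exact hn.trans (by rw [hn0, pow_zero])
    · obtain ⟨z, hz⟩ := exists_prime_orderOf_dvd_card' (G := ↥(R : Subgroup ↥X) ⧸ Qr) p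
        (hn ▸ dvd_pow_self p hn0.ne')
      have htop : zpowers z = ⊤ := by
        have hlt : Qr < (zpowers z).comap (QuotientGroup.mk' Qr) := by
          refine lt_of_le_of_ne (fun a ha => ?_) fun e => ?_
          · rw [mem_comap, QuotientGroup.mk'_apply, (QuotientGroup.eq_one_iff a).mpr ha]
            exact one_mem _
          · obtain ⟨a, rfl⟩ := QuotientGroup.mk'_surjective Qr z
            have h1 : a ∈ Qr := e.symm ▸ mem_zpowers _
            rw [QuotientGroup.mk'_apply, (QuotientGroup.eq_one_iff a).mpr h1, orderOf_one] at hz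
            exact (Fact.out : p.Prime).one_lt.ne hz
        have := hco.2 _ hlt
        rw [← comap_top (QuotientGroup.mk' Qr)] at this
        exact comap_injective (QuotientGroup.mk'_surjective Qr) this
      show Qr.index = p
      refine Eq.trans ?_ hz
      rw [index, ← Nat.card_zpowers, htop, card_top]
  -- the Sylow subgroup of the quotient
  have hsurj := QuotientGroup.mk'_surjective N
  set R' : Sylow p (↥X ⧸ N) := R.mapSurjective hsurj with hR'
  have hcard : Nat.card ↥(R' : Subgroup (↥X ⧸ N)) = p := by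
    rw [hR', Sylow.coe_mapSurjective]
    have h1 : (R : Subgroup ↥X) ⊓ N = Qx := by
      refine le_antisymm (fun r hr => hRN r hr.1 hr.2) fun r hr => ⟨hQR hr, hQC hr⟩
    let φ : ↥(R : Subgroup ↥X) →* ↥((R : Subgroup ↥X).map (QuotientGroup.mk' N)) :=
      (QuotientGroup.mk' N).subgroupMap _
    have hker : φ.ker = Qx.subgroupOf (R : Subgroup ↥X) := by
      ext r
      rw [MonoidHom.mem_ker, mem_subgroupOf, ← h1, mem_inf, and_iff_right r.2,
        ← QuotientGroup.eq_one_iff]
      exact ⟨fun e => congrArg Subtype.val e, fun e => Subtype.ext e⟩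
    rw [← Nat.card_congr (QuotientGroup.quotientKerEquivOfSurjective φ
      (MonoidHom.subgroupMap_surjective _ _)).toEquiv, hker]
    exact hindex
  refine hsec X N hXtop hsimp R' hcard (QuotientGroup.mk (s := N) ⟨g, hgX⟩)
    (fun e => hgnC ((QuotientGroup.eq_one_iff (N := N) ⟨g, hgX⟩).mp e)) ?_
  refine Nat.Coprime.coprime_dvd_left ?_ hgo
  have := orderOf_map_dvd (QuotientGroup.mk' N) (⟨g, hgX⟩ : ↥X)
  rwa [Subgroup.orderOf_mk] at this

theorem secHyp_two : SecHyp 2 G := by
  intro X N _ _ hsimp R hR g hg hgo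
  haveI : IsCyclic ↥(R : Subgroup (↥X ⧸ N)) := isCyclic_of_prime_card (p := 2) hR
  have heven : 2 ∣ Nat.card (↥X ⧸ N) := hR ▸ card_subgroup_dvd_card _
  have htop := card_le_two_of_cyclic_sylow_two R inferInstance heven
  rw [htop, card_top] at hR
  have h2 : orderOf g ∣ 2 := hR ▸ orderOf_dvd_natCard g
  exact hg (orderOf_eq_one_iff.mp (Nat.eq_one_of_dvd_coprimes hgo dvd_rfl h2))

/-- With abelian Sylow `p`-subgroups, centralisers of non-trivial `p`-elements are abelian. -/
theorem cent_commute [IsSimpleGroup G] (hna : ¬ IsMulCommutative G) (h : HSN G)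
    {p : ℕ} [hp : Fact p.Prime] (hab : ∀ P : Sylow p G, ¬ NonAb (P : Subgroup G)) {x : G}
    (hxp : orderOf x = p) : ¬ NonAb (centralizer ({x} : Set G)) := by
  classical
  intro hCna
  have hx1 : x ≠ 1 := fun e => by
    rw [e, orderOf_one] at hxp
    exact hp.out.one_lt.ne hxp
  obtain ⟨P, hP⟩ := (IsPGroup.of_card (n := 1)
    (by rw [Nat.card_zpowers, hxp, pow_one]) : IsPGroup p ↥(zpowers x)).exists_le_sylow
  have hxP : x ∈ (P : Subgroup G) := hP (mem_zpowers x)
  set C := centralizer ({x} : Set G) with hC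
  have hmemC : ∀ a, a ∈ C ↔ Commute a x := fun a => mem_centralizer_singleton_iff
  have hPab : ∀ a ∈ (P : Subgroup G), ∀ b ∈ (P : Subgroup G), Commute a b := fun a ha b hb =>
    commute_of_not_nonAb (hab P) ha hb
  have hPC : (P : Subgroup G) ≤ C := fun a ha => (hmemC a).mpr (hPab a ha x hxP)
  -- `p'`-elements normalising `P` and commuting with `x` centralise `P`
  have key : ∀ y ∈ normalizer ((P : Subgroup G) : Set G), (orderOf y).Coprime p → Commute y x →
      ∀ a ∈ (P : Subgroup G), Commute y a := by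
    intro y hy hyo hyx
    by_contra hno
    push Not at hno
    obtain ⟨a₀, ha₀, hya₀⟩ := hno
    have hconj : ∀ a ∈ (P : Subgroup G), y * a * y⁻¹ ∈ (P : Subgroup G) := fun a ha =>
      (mem_normalizer_iff.mp hy a).mp ha
    let D : Subgroup G :=
      { carrier := {d | ∃ a ∈ (P : Subgroup G), d = y * a * y⁻¹ * a⁻¹}
        one_mem' := ⟨1, one_mem _, by group⟩
        mul_mem' := by
          rintro _ _ ⟨a, ha, rfl⟩ ⟨b, hb, rfl⟩
          refine ⟨a * b, mul_mem ha hb, ?_⟩
          have h1 : Commute a⁻¹ (y * b * y⁻¹) := hPab _ (inv_mem ha) _ (hconj b hb)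
          have h2 : Commute a⁻¹ b⁻¹ := hPab _ (inv_mem ha) _ (inv_mem hb)
          calc y * a * y⁻¹ * a⁻¹ * (y * b * y⁻¹ * b⁻¹)
              = y * a * y⁻¹ * (a⁻¹ * (y * b * y⁻¹)) * b⁻¹ := by group
            _ = y * a * y⁻¹ * (y * b * y⁻¹) * (a⁻¹ * b⁻¹) := by rw [h1.eq]; group
            _ = y * (a * b) * y⁻¹ * (a * b)⁻¹ := by rw [h2.eq]; group
        inv_mem' := by
          rintro _ ⟨a, ha, rfl⟩
          refine ⟨a⁻¹, inv_mem ha, ?_⟩
          calc (y * a * y⁻¹ * a⁻¹)⁻¹ = a * (y * a⁻¹ * y⁻¹) := by group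
            _ = y * a⁻¹ * y⁻¹ * a⁻¹⁻¹ := by
              rw [(hPab _ ha _ (hconj _ (inv_mem ha))).eq, inv_inv] }
    have hDP : D ≤ (P : Subgroup G) := by
      rintro _ ⟨a, ha, rfl⟩
      exact mul_mem (hconj a ha) (inv_mem ha)
    have hyD : zpowers y ≤ normalizer (D : Set G) := by
      rw [zpowers_le, mem_normalizer_iff]
      intro d
      constructor
      · rintro ⟨a, ha, rfl⟩
        exact ⟨y * a * y⁻¹, hconj a ha, by group⟩
      · rintro ⟨a, ha, hd⟩
        refine ⟨y⁻¹ * a * y, (mem_normalizer_iff''.mp hy a).mp ha, ?_⟩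
        calc d = y⁻¹ * (y * d * y⁻¹) * y := by group
          _ = _ := by rw [hd]; group
    -- no non-trivial element of `D` commutes with `y`
    have hfree : ∀ d ∈ D, Commute y d → d = 1 := by
      rintro d ⟨a, ha, hd⟩ hyd
      have h1 : ∀ i : ℕ, y ^ i * a * (y ^ i)⁻¹ = d ^ i * a := by
        intro i
        induction i with
        | zero => simp
        | succ i ih =>
          calc y ^ (i + 1) * a * (y ^ (i + 1))⁻¹ = y * (y ^ i * a * (y ^ i)⁻¹) * y⁻¹ := by
                rw [pow_succ']; group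
            _ = y * d ^ i * a * y⁻¹ := by rw [ih]; group
            _ = d ^ i * (y * a * y⁻¹ * a⁻¹) * a := by rw [(hyd.pow_right i).eq]; group
            _ = d ^ (i + 1) * a := by rw [← hd, pow_succ]
      have h2 := h1 (orderOf y)
      rw [pow_orderOf_eq_one, one_mul, inv_one, mul_one] at h2
      have h3 : d ^ orderOf y = 1 := by
        calc d ^ orderOf y = d ^ orderOf y * a * a⁻¹ := by group
          _ = 1 := by rw [← h2]; group
      obtain ⟨k, hk⟩ := P.2 ⟨d, hDP ⟨a, ha, hd⟩⟩
      exact orderOf_eq_one_iff.mp (Nat.eq_one_of_dvd_coprimes (hyo.pow_right k)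
        (orderOf_dvd_of_pow_eq_one h3)
        (orderOf_dvd_of_pow_eq_one (by simpa using congrArg Subtype.val hk)))
    set L := D ⊔ zpowers y with hL
    have hLna : NonAb L := by
      refine ⟨_, mem_sup_left ⟨a₀, ha₀, rfl⟩, y, mem_sup_right (mem_zpowers y), fun e => hya₀ ?_⟩
      have h1 := hfree _ ⟨a₀, ha₀, rfl⟩ e.symm
      rw [mul_inv_eq_one] at h1
      exact mul_inv_eq_iff_eq_mul.mp h1
    have hxN : x ∈ normalizer (L : Set G) := by
      apply centralizer_le_normalizer
      rw [hL, sup_eq_closure, centralizer_closure]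
      refine mem_centralizer_iff.mpr ?_
      rintro z (hz | ⟨i, rfl⟩)
      · exact (hPab z (hDP hz) x hxP).eq
      · exact (hyx.zpow_left i).eq
    rw [h L hLna] at hxN
    rw [← SetLike.mem_coe, hL, coe_mul_of_right_le_normalizer_left D _ hyD] at hxN
    obtain ⟨d, hd, w, hw, hdw⟩ := hxN
    have hwP : w ∈ (P : Subgroup G) := by
      have : w = d⁻¹ * x := by rw [← hdw]; group
      exact this ▸ mul_mem (inv_mem (hDP hd)) hxP
    obtain ⟨k, hk⟩ := P.2 ⟨w, hwP⟩
    have hw1 : w = 1 := orderOf_eq_one_iff.mp (Nat.eq_one_of_dvd_coprimes (hyo.pow_right k)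
      ((orderOf_dvd_of_mem_zpowers hw)) (orderOf_dvd_of_pow_eq_one
        (by simpa using congrArg Subtype.val hk)))
    subst hw1
    simp only [mul_one] at hdw
    exact hx1 (hfree x (hdw ▸ hd) hyx)
  -- so `N_C(P) = C_C(P)`
  set Pc : Sylow p ↥C := P.subtype hPC with hPc
  have hPcoe : (Pc : Subgroup ↥C) = (P : Subgroup G).subgroupOf C := rfl
  have hNC : normalizer ((Pc : Subgroup ↥C) : Set ↥C) ≤ centralizer ((Pc : Subgroup ↥C) : Set ↥C) := by
    intro c hc
    have hcP : (c : G) ∈ normalizer ((P : Subgroup G) : Set G) := by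
      rw [mem_normalizer_iff]
      intro a
      rw [mem_normalizer_iff] at hc
      constructor
      · intro ha
        exact (hc ⟨a, hPC ha⟩).mp ha
      · intro ha
        have haC : a ∈ C := by
          have := mul_mem (mul_mem (inv_mem c.2) (hPC ha)) c.2
          simpa [mul_assoc] using this
        exact (hc ⟨a, haC⟩).mpr ha
    obtain ⟨k, m, hm, hord⟩ :=
      Nat.exists_eq_pow_mul_and_not_dvd (orderOf_pos (c : G)).ne' p hp.out.ne_one
    have hcop : (p ^ k).Coprime m := (hp.out.coprime_iff_not_dvd.mpr hm).pow_left k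
    have hm0 : 0 < m := Nat.pos_of_ne_zero fun e => hm (e ▸ dvd_zero p)
    -- the `p'`-part
    have hy : ∀ a ∈ (P : Subgroup G), Commute ((c : G) ^ p ^ k) a := by
      refine key _ (pow_mem hcP _) ?_ (((hmemC _).mp c.2).pow_left _)
      refine Nat.Coprime.coprime_dvd_left (orderOf_dvd_of_pow_eq_one ?_)
        ((hp.out.coprime_iff_not_dvd.mpr hm).symm)
      rw [← pow_mul, ← hord, pow_orderOf_eq_one]
    -- the `p`-part
    have hcp : (c : G) ^ m ∈ (P : Subgroup G) := by
      have hz : IsPGroup p ↥(zpowers ((c : G) ^ m)) := by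
        obtain ⟨l, -, hl⟩ := (Nat.dvd_prime_pow hp.out).mp (orderOf_dvd_of_pow_eq_one
          (x := (c : G) ^ m) (n := p ^ k) (by rw [← pow_mul, mul_comm, ← hord, pow_orderOf_eq_one]))
        exact IsPGroup.of_card (n := l) (by rw [Nat.card_zpowers, hl])
      have hsup : IsPGroup p ↥((P : Subgroup G) ⊔ zpowers ((c : G) ^ m)) :=
        P.2.to_sup_of_normal_left' hz (zpowers_le.mpr (pow_mem hcP m))
      exact (P.is_maximal' hsup le_sup_left).le (mem_sup_right (mem_zpowers _))
    have hcc : ∀ a ∈ (P : Subgroup G), Commute (c : G) a := by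
      intro a ha
      have h1 := (hy a ha).zpow_left (Nat.gcdA (p ^ k) m)
      have h2 := (hPab _ hcp a ha).zpow_left (Nat.gcdB (p ^ k) m)
      have h3 := h1.mul_left h2
      rwa [← zpow_natCast, ← zpow_natCast, ← zpow_mul, ← zpow_mul, ← zpow_add,
        ← Nat.gcd_eq_gcd_ab, hcop.gcd_eq_one, Nat.cast_one, zpow_one] at h3
    exact mem_centralizer_iff.mpr fun a ha => Subtype.ext (hcc a ha).eq.symm
  set U := (MonoidHom.transferSylow Pc hNC).ker.map C.subtype with hU
  have hcompl := MonoidHom.ker_transferSylow_isComplement' Pc hNC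
  have hUC : U ≤ C := map_subtype_le _
  have hCU : C ≤ normalizer (U : Set G) := by
    intro c hc
    exact le_normalizer_map C.subtype ⟨⟨c, hc⟩,
      (normalizer_eq_top (H := (MonoidHom.transferSylow Pc hNC).ker)).symm ▸ mem_top _, rfl⟩
  have hdec : ∀ c ∈ C, ∃ u ∈ U, ∃ s ∈ (P : Subgroup G), c = u * s := by
    intro c hc
    obtain ⟨⟨u, s⟩, hus⟩ := hcompl.2 ⟨c, hc⟩
    exact ⟨_, mem_map_of_mem C.subtype u.2, ((s : ↥C) : G), s.2, (congrArg Subtype.val hus).symm⟩
  have hUne : U ≠ C := by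
    intro e
    obtain ⟨u, hu, hux⟩ := (e ▸ hPC hxP : x ∈ U)
    have : (u : ↥C) ∈ (MonoidHom.transferSylow Pc hNC).ker ⊓ (Pc : Subgroup ↥C) :=
      ⟨hu, show (u : G) ∈ (P : Subgroup G) by rw [show (u : G) = x from hux]; exact hxP⟩
    rw [hcompl.disjoint.eq_bot, mem_bot] at this
    exact hx1 (by rw [← hux, this]; rfl)
  have hUab : ∀ a ∈ U, ∀ b ∈ U, Commute a b := fun a ha b hb =>
    commute_of_normal h hUC hCU hUne ha hb
  obtain ⟨s, hs, u₀, hu₀, hsu⟩ : ∃ s ∈ (P : Subgroup G), ∃ u ∈ U, ¬ Commute s u := by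
    by_contra hno
    push Not at hno
    obtain ⟨a, ha, b, hb, hab'⟩ := hCna
    obtain ⟨u, hu, s, hs, rfl⟩ := hdec a ha
    obtain ⟨u', hu', s', hs', rfl⟩ := hdec b hb
    exact hab' (((hUab u hu u' hu').mul_right (hno s' hs' u hu).symm).mul_left
      ((hno s hs u' hu').mul_right (hPab s hs s' hs')))
  set L := U ⊔ zpowers s with hL
  have hLC : L ≤ C := sup_le hUC (zpowers_le.mpr (hPC hs))
  have hsU : zpowers s ≤ normalizer (U : Set G) := zpowers_le.mpr (hCU (hPC hs))
  have hCL : C ≤ normalizer (L : Set G) := by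
    intro c hc
    obtain ⟨u, hu, v, hv, rfl⟩ := hdec c hc
    refine mul_mem (le_normalizer (mem_sup_left hu)) ?_
    have hv1 : v ∈ normalizer (U : Set G) := hCU (hPC hv)
    have hvs : Commute v s := hPab v hv s hs
    rw [mem_normalizer_iff]
    intro a
    have hmap : L.map (MulAut.conj v).toMonoidHom = L := by
      have hs' : (zpowers s).map (MulAut.conj v).toMonoidHom = zpowers s := by
        rw [MonoidHom.map_zpowers]
        congr 1
        show v * s * v⁻¹ = s
        rw [hvs.eq, mul_inv_cancel_right]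
      have hU' : U.map (MulAut.conj v).toMonoidHom = U := by
        ext b
        rw [mem_map_equiv, MulAut.conj_symm_apply]
        exact (mem_normalizer_iff''.mp hv1 b).symm
      rw [hL, Subgroup.map_sup, hs', hU']
    conv_rhs => rw [← hmap, mem_map_equiv, MulAut.conj_symm_apply]
    rw [show v⁻¹ * (v * a * v⁻¹) * v = a by group]
  have hLeq : L = C := by
    refine le_antisymm hLC ?_
    rw [← h L ⟨s, mem_sup_right (mem_zpowers s), u₀, mem_sup_left hu₀, hsu⟩]
    exact hCL
  have hPs : (P : Subgroup G) = zpowers s := by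
    refine le_antisymm (fun a ha => ?_) (zpowers_le.mpr hs)
    have haL : a ∈ (L : Set G) := hLeq ▸ hPC ha
    rw [hL, coe_mul_of_right_le_normalizer_left U _ hsU] at haL
    obtain ⟨u, hu, w, hw, huw⟩ := haL
    obtain ⟨u', hu', hu''⟩ := hu
    have hu1 : (u' : ↥C) ∈ (MonoidHom.transferSylow Pc hNC).ker ⊓ (Pc : Subgroup ↥C) := by
      refine ⟨hu', ?_⟩
      show (u' : G) ∈ (P : Subgroup G)
      rw [show (u' : G) = u from hu'', show u = a * w⁻¹ by rw [← huw]; group]
      exact mul_mem ha (inv_mem ((zpowers_le.mpr hs) hw))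
    rw [hcompl.disjoint.eq_bot, mem_bot] at hu1
    have hu2 : u = 1 := by rw [← hu'', hu1]; rfl
    rw [← huw, hu2]
    simpa using hw
  -- the normaliser of `P` normalises `⟨x⟩`, hence lies in `C`
  have hNPC : normalizer ((P : Subgroup G) : Set G) ≤ C := by
    haveI : IsCyclic ↥(P : Subgroup G) := by rw [hPs]; infer_instance
    intro y hy
    have hNC' : normalizer (C : Set G) = C := h C hCna
    rw [← hNC', mem_normalizer_iff]
    intro a
    have hyx : y * x * y⁻¹ ∈ zpowers x := by
      have h1 : zpowers (⟨y * x * y⁻¹, (mem_normalizer_iff.mp hy x).mp hxP⟩ : ↥(P : Subgroup G)) =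
          zpowers ⟨x, hxP⟩ := by
        refine cyclic_subgroup_ext ?_
        rw [Nat.card_zpowers, Nat.card_zpowers, Subgroup.orderOf_mk, Subgroup.orderOf_mk,
          ← MulAut.conj_apply, MulEquiv.orderOf_eq]
      have h2 := mem_zpowers (⟨y * x * y⁻¹, (mem_normalizer_iff.mp hy x).mp hxP⟩ : ↥(P : Subgroup G))
      rw [h1] at h2
      obtain ⟨i, hi⟩ := h2
      exact ⟨i, by simpa using congrArg Subtype.val hi⟩
    obtain ⟨i, hi⟩ := hyx
    have hxi : ∀ b : G, Commute b x → Commute b (y * x * y⁻¹) := fun b hb => hi ▸ hb.zpow_right i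
    rw [hmemC, hmemC]
    constructor
    · intro ha
      have hle : zpowers (y * x * y⁻¹) = zpowers x := by
        refine eq_of_le_of_card_ge (zpowers_le.mpr ⟨i, hi⟩) ?_
        rw [Nat.card_zpowers, Nat.card_zpowers, ← MulAut.conj_apply, MulEquiv.orderOf_eq]
      have h2 : Commute (y * a * y⁻¹) (y * x * y⁻¹) := ha.map (MulAut.conj y).toMonoidHom
      obtain ⟨j, hj⟩ := (hle.symm ▸ mem_zpowers x : x ∈ zpowers (y * x * y⁻¹))
      exact hj ▸ h2.zpow_right j
    · intro ha
      have h1 := (hxi _ ha).map (MulAut.conj y).symm.toMonoidHom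
      simpa [mul_assoc] using h1
  have hcent : normalizer ((P : Subgroup G) : Set G) ≤ centralizer ((P : Subgroup G) : Set G) := by
    intro y hy
    have : (⟨y, hNPC hy⟩ : ↥C) ∈ normalizer ((Pc : Subgroup ↥C) : Set ↥C) := by
      rw [mem_normalizer_iff]
      intro a
      exact mem_normalizer_iff.mp hy a
    have h1 := hNC this
    exact mem_centralizer_iff.mpr fun a ha =>
      congrArg Subtype.val (mem_centralizer_iff.mp h1 ⟨a, hPC ha⟩ ha)
  have hcompl' := MonoidHom.ker_transferSylow_isComplement' P hcent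
  rcases (MonoidHom.normal_ker (MonoidHom.transferSylow P hcent)).eq_bot_or_eq_top with e | e
  · rw [e] at hcompl'
    exact ne_top_of_isPGroup hna P.2 (isComplement'_bot_left.mp hcompl')
  · rw [e] at hcompl'
    have hb := isComplement'_top_left.mp hcompl'
    rw [hb, mem_bot] at hxP
    exact hx1 hxP

/-- There is none of odd order. -/
theorem even_card [IsSimpleGroup G] (hna : ¬ IsMulCommutative G) (h : HSN G) :
    2 ∣ Nat.card G := by
  suffices ∀ (n : ℕ) (G : Type u_1) [Group G] [Finite G] [IsSimpleGroup G],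
      Nat.card G = n → ¬ IsMulCommutative G → HSN G → 2 ∣ Nat.card G from this _ G rfl hna h
  intro n
  induction n using Nat.strong_induction_on with
  | _ n ih =>
  intro G _ _ _ hn hna h
  by_contra hodd
  have hodd' : Odd (Nat.card G) := Nat.odd_iff.mpr (by omega)
  have hsec : ∀ p : ℕ, p.Prime → SecHyp p G := by
    intro p hp X N _ hX hsimp R hR g hg hgo
    haveI := Fact.mk hp
    haveI := hsimp
    have hdvd : Nat.card (↥X ⧸ N) ∣ Nat.card G :=
      (card_quotient_dvd_card N).trans (card_subgroup_dvd_card X)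
    by_cases hc : IsMulCommutative (↥X ⧸ N)
    · open scoped IsMulCommutative in
      have hq : (Nat.card (↥X ⧸ N)).Prime := IsSimpleGroup.prime_card
      have hpq : p ∣ Nat.card (↥X ⧸ N) := hR ▸ card_subgroup_dvd_card _
      rw [(Nat.prime_dvd_prime_iff_eq hp hq).mp hpq] at hgo
      exact hg (orderOf_eq_one_iff.mp (Nat.eq_one_of_dvd_coprimes hgo dvd_rfl
        (orderOf_dvd_natCard g)))
    · refine hodd ((ih _ ?_ (↥X ⧸ N) rfl hc ?_).trans hdvd)
      · rw [← hn]
        refine lt_of_le_of_lt (Nat.le_of_dvd Nat.card_pos (card_quotient_dvd_card N)) ?_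
        exact lt_of_le_of_ne (card_le_card_group X) fun e => hX (eq_top_of_card_eq X e)
      · exact (h.of_injective X.subtype X.subtype_injective).of_surjective _
          (QuotientGroup.mk'_surjective N)
  have hCN : Cfsg.IsCNGroup G := by
    intro g hg
    obtain ⟨p, hp, hpd⟩ := Nat.exists_prime_and_dvd (fun e => hg (orderOf_eq_one_iff.mp e))
    haveI := Fact.mk hp
    set x := g ^ (orderOf g / p) with hx
    have hxo : orderOf x = p := orderOf_pow_orderOf_div (orderOf_pos g).ne' hpd
    have hC := cent_commute hna h (fun P => sylow_commute hna h (hsec p hp) P) hxo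
    letI : CommGroup ↥(centralizer ({g} : Set G)) :=
      { (inferInstance : Group ↥(centralizer ({g} : Set G))) with
        mul_comm := fun a b => Subtype.ext (commute_of_not_nonAb hC
          (mem_centralizer_singleton_iff.mpr
            ((show Commute (a : G) g from mem_centralizer_singleton_iff.mp a.2).pow_right _))
          (mem_centralizer_singleton_iff.mpr
            ((show Commute (b : G) g from mem_centralizer_singleton_iff.mp b.2).pow_right _))).eq }
    exact CommGroup.isNilpotent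
  haveI := S0183.result hodd' hCN
  exact hna (IsSimpleGroup.comm_iff_isSolvable.mpr inferInstance |> fun hh => ⟨⟨hh⟩⟩)

end Cfsg.Agent.Lib.SelfNormalizing
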