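import Mathlib
import Cfsg.Agent.Lib.SelfNormalizing.Basic
import Cfsg.Agent.Lib.AbelianInvCentralizer.SylowTwo
import Cfsg.Agent.Lib.AbelianInvCentralizer.Sharp

/-!
# Self-normalisation of the non-abelian subgroups, from transitivity of commutation

In a group with transitive commutation, cyclic odd abelian subgroups, abelian centralisers inverted
at most by a sign and `[N(C(t)) : C(t)]` prime, the non-abelian subgroups are self-normalising.
-/

set_option autoImplicit false
set_option linter.style.haveILetI false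

namespace Cfsg.Agent.Lib.SelfNormalizing

open Subgroup AbelianInvCentralizer
open scoped commutatorElement

variable {G : Type*} [Group G]

/-- Commutation is transitive on non-trivial elements. -/
def CommTrans (G : Type*) [Group G] : Prop :=
  ∀ z g h : G, z ≠ 1 → Commute g z → Commute h z → Commute g h

theorem CommTrans.subgroup (hT : CommTrans G) (H : Subgroup G) : CommTrans ↥H :=
  fun z g h hz hg hh =>
    Subtype.ext (hT z g h (fun e => hz (Subtype.ext e)) (hg.map H.subtype) (hh.map H.subtype)).eq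

theorem CommTrans.hasAbelianCent (hT : CommTrans G) : HasAbelianCent G :=
  fun t ht a b ha hb => hT t a b ht.2 ha hb

theorem CommTrans.data (hT : CommTrans G) (hS : HasSpread G) : Data G := by
  refine ⟨hT.hasAbelianCent, hS, ?_⟩
  intro t a ht hat ha b hb
  exact cent_le_nz hT.hasAbelianCent ht
    (mem_cent.mpr (hT a b t ha (mem_cent.mp hb) hat.symm))

variable [Finite G]

/-- The order of a group with these properties. -/
theorem card_eq_of_data (D : Data G) (hF : HasFour G) {t : G} (ht : IsInv t) :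
    Nat.card G = ((cent t).relIndex (nz t) + 2) * (cent t).relIndex (nz t) * Nat.card ↥(cent t) := by
  rw [← (nz t).index_mul_card, D.index_nz hF ht, mul_assoc]
  congr 1
  rw [mul_comm, ← relIndex_bot_left, ← relIndex_bot_left,
    relIndex_mul_relIndex ⊥ (cent t) (nz t) bot_le (cent_le_nz D.abCent ht)]

variable (hT : CommTrans G) (hS : HasSpread G) (hF : HasFour G)
  (hp : ∀ t : G, IsInv t → ((cent t).relIndex (nz t)).Prime)
  (hsign : ∀ z h : G, z * z ≠ 1 → Commute (h * z * h⁻¹) z → h * z * h⁻¹ = z ∨ h * z * h⁻¹ = z⁻¹)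
  (hcyc : ∀ R : Subgroup G, Odd (Nat.card ↥R) → (∀ g ∈ R, ∀ h ∈ R, Commute g h) → IsCyclic ↥R)

omit [Finite G] in
theorem sq_ne_one_of_odd {H : Subgroup G} (hodd : Odd (Nat.card ↥H)) {z : G} (hz : z ∈ H)
    (hz1 : z ≠ 1) : z * z ≠ 1 := fun e => hz1 (orderOf_eq_one_iff.mp
  (Nat.eq_one_of_dvd_coprimes hodd.coprime_two_right (H.orderOf_dvd_natCard hz)
    (orderOf_dvd_of_pow_eq_one (by rw [pow_two]; exact e))))

include hT hsign hcyc in
/-- Subgroups of odd order are abelian. -/
theorem commute_of_odd (H : Subgroup G) (hodd : Odd (Nat.card ↥H)) : ¬ NonAb H := by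
  classical
  intro hna
  haveI hZ : IsZGroup ↥H := by
    rw [isZGroup_iff]
    intro p hp' P
    haveI := Fact.mk hp'
    set R : Subgroup G := (P : Subgroup ↥H).map H.subtype with hR
    have hRp : IsPGroup p ↥R := P.2.map _
    have hRodd : Odd (Nat.card ↥R) :=
      hodd.of_dvd_nat (card_dvd_of_le (map_subtype_le _))
    have hRab : ∀ g ∈ R, ∀ h ∈ R, Commute g h := by
      intro g hg h hh
      rcases subsingleton_or_nontrivial ↥R with hsub | hnt
      · have h1 : g = h :=
          congrArg Subtype.val (Subsingleton.elim (⟨g, hg⟩ : R) ⟨h, hh⟩)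
        rw [h1]
      · haveI := hRp.center_nontrivial
        obtain ⟨⟨⟨y, hy⟩, hyc⟩, hy1⟩ := exists_ne (1 : ↥(center ↥R))
        exact hT y g h (fun e => hy1 (Subtype.ext (Subtype.ext e)))
          (congrArg Subtype.val (mem_center_iff.mp hyc ⟨g, hg⟩))
          (congrArg Subtype.val (mem_center_iff.mp hyc ⟨h, hh⟩))
    haveI := hcyc R hRodd hRab
    exact ((P : Subgroup ↥H).equivMapOfInjective H.subtype H.subtype_injective).isCyclic.mpr this
  haveI := IsZGroup.isCyclic_commutator (G := ↥H)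
  obtain ⟨a, ha, b, hb, hab⟩ := hna
  obtain ⟨⟨z, hzH⟩, hzR, hz1⟩ : ∃ z ∈ commutator ↥H, z ≠ 1 := by
    refine ⟨⁅(⟨a, ha⟩ : ↥H), ⟨b, hb⟩⁆,
      commutator_mem_commutator (mem_top _) (mem_top _), fun e => hab ?_⟩
    exact congrArg Subtype.val (commutatorElement_eq_one_iff_mul_comm.mp e)
  have hz1' : z ≠ 1 := fun e => hz1 (Subtype.ext e)
  have hzz := sq_ne_one_of_odd hodd hzH hz1'
  have hcz : ∀ h ∈ H, Commute h z := by
    intro h hh
    have hmem := (inferInstance : (commutator ↥H).Normal).conj_mem _ hzR ⟨h, hh⟩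
    have hc : Commute (h * z * h⁻¹) z := by
      letI : CommGroup ↥(commutator ↥H) := IsCyclic.commGroup
      exact congrArg (fun w : ↥(commutator ↥H) => ((w : ↥H) : G))
        (mul_comm (⟨_, hmem⟩ : ↥(commutator ↥H)) ⟨_, hzR⟩)
    rcases hsign z h hzz hc with e | e
    · exact mul_inv_eq_iff_eq_mul.mp e
    · -- `h * h` centralises `z` and `h` has odd order
      have h1 : (h * h) * z * (h * h)⁻¹ = z := by
        calc (h * h) * z * (h * h)⁻¹ = h * (h * z * h⁻¹) * h⁻¹ := by group
          _ = h * z⁻¹ * h⁻¹ := by rw [e]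
          _ = (h * z * h⁻¹)⁻¹ := by group
          _ = z := by rw [e, inv_inv]
      have h2 : Commute (h * h) z := mul_inv_eq_iff_eq_mul.mp h1
      obtain ⟨k, hk⟩ : Odd (orderOf h) := hodd.of_dvd_nat (H.orderOf_dvd_natCard hh)
      have h3 : (h * h) ^ (k + 1) = h := by
        rw [← pow_two, ← pow_mul, show 2 * (k + 1) = orderOf h + 1 by omega, pow_succ,
          pow_orderOf_eq_one, one_mul]
      exact h3 ▸ h2.pow_left (k + 1)
  exact hab (hT z a b hz1' (hcz a ha) (hcz b hb))

include hT hS hF hp in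
/-- An element moving `C(t)` leaves no proper non-trivial subgroup of it invariant. -/
theorem cent_le_of_invariant {t k : G} (ht : IsInv t) (hk : k ∈ nz t) (hkA : k ∉ cent t)
    {H : Subgroup G} (htH : t ∈ H) (hkH : k ∈ H) : cent t ≤ H := by
  classical
  have D := hT.data hS
  have hC := hT.hasAbelianCent
  have hA := (D.facts hF ht).1
  set p := (cent t).relIndex (nz t) with hpdef
  set A' := (cent t).subgroupOf (nz t) with hA'
  haveI : A'.Normal := normal_subgroupOf_of_le_normalizer le_rfl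
  have hind : ∀ i : ℕ, i < p → k ^ i ∈ cent t → i = 0 := by
    intro i hi hki
    by_contra hi0
    refine hkA ?_
    have hkp : k ^ p ∈ cent t := A'.pow_index_mem ⟨k, hk⟩
    have hcop : p.Coprime i :=
      (hp t ht).coprime_iff_not_dvd.mpr fun hd => by
        have := Nat.le_of_dvd (Nat.pos_of_ne_zero hi0) hd
        omega
    have h3 := mul_mem (zpow_mem hkp (Nat.gcdA p i)) (zpow_mem hki (Nat.gcdB p i))
    rwa [← zpow_natCast, ← zpow_natCast, ← zpow_mul, ← zpow_mul, ← zpow_add, ← Nat.gcd_eq_gcd_ab,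
      hcop.gcd_eq_one, Nat.cast_one, zpow_one] at h3
  set S := H ⊓ cent t with hSdef
  have hmem : ∀ i : ℕ, k ^ i * t * (k ^ i)⁻¹ ∈ S := by
    intro i
    refine mem_inf.mpr ⟨mul_mem (mul_mem (pow_mem hkH i) htH) (inv_mem (pow_mem hkH i)), ?_⟩
    exact (mem_normalizer_iff.mp (pow_mem hk i) t).mp (mem_cent.mpr (Commute.refl t))
  have hlow : ∀ i j : ℕ, i ≤ j → j < p →
      k ^ i * t * (k ^ i)⁻¹ = k ^ j * t * (k ^ j)⁻¹ → i = j := by
    intro i j hij hjp he
    obtain ⟨d, rfl⟩ := Nat.exists_eq_add_of_le hij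
    have h1 : k ^ d * t * (k ^ d)⁻¹ = t := by
      calc k ^ d * t * (k ^ d)⁻¹ = (k ^ i)⁻¹ * (k ^ (i + d) * t * (k ^ (i + d))⁻¹) * k ^ i := by
            rw [pow_add]; group
        _ = (k ^ i)⁻¹ * (k ^ i * t * (k ^ i)⁻¹) * k ^ i := by rw [← he]
        _ = t := by group
    have := hind d (by omega) (mem_cent.mpr (mul_inv_eq_iff_eq_mul.mp h1))
    omega
  let f : Option (Fin p) → ↥S := fun o =>
    o.elim 1 fun i => ⟨_, hmem i⟩
  have hf : Function.Injective f := by
    rintro (_ | i) (_ | j) h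
    · rfl
    · exact absurd (congrArg Subtype.val h).symm (ht.conj _).2
    · exact absurd (congrArg Subtype.val h) (ht.conj _).2
    · have he : k ^ (i : ℕ) * t * (k ^ (i : ℕ))⁻¹ = k ^ (j : ℕ) * t * (k ^ (j : ℕ))⁻¹ :=
        congrArg Subtype.val h
      refine congrArg some (Fin.ext ?_)
      rcases le_total (i : ℕ) j with hij | hij
      · exact hlow i j hij j.2 he
      · exact (hlow j i hij i.2 he.symm).symm
  have hle := Nat.card_le_card_of_injective f hf
  rw [Finite.card_option, Nat.card_fin, ← hA] at hle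
  have heq : S = cent t := eq_of_le_of_card_ge inf_le_right hle
  exact heq ▸ inf_le_left

include hT hS hF hp hsign hcyc in
/-- Non-abelian subgroups are self-normalising. -/
theorem hsn_of_trans : HSN G := by
  classical
  intro H hna
  have hC := hT.hasAbelianCent
  have D := hT.data hS
  refine le_antisymm (fun g hg => ?_) le_normalizer
  have hgH : ∀ a ∈ H, g * a * g⁻¹ ∈ H := fun a ha => (mem_normalizer_iff.mp hg a).mp ha
  by_cases hodd : Odd (Nat.card ↥H)
  · exact absurd hna (commute_of_odd hT hsign hcyc H hodd)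
  rw [Nat.not_odd_iff_even] at hodd
  by_cases hFH : HasFour ↥H
  · obtain ⟨t', s', ht', hs', hne, hts⟩ := id hFH
    set t : G := t'.1 with htdef
    have ht : IsInv t := ⟨congrArg Subtype.val ht'.1, fun e => ht'.2 (Subtype.ext e)⟩
    by_cases hSH : HasSpread ↥H
    · -- `H` is everything
      have DH := (hT.subgroup H).data hSH
      obtain ⟨hA', -, -, he3, -⟩ := DH.facts hFH ht'
      have hcentH : cent t' = (cent t).subgroupOf H := by
        ext a
        rw [mem_subgroupOf, mem_cent, mem_cent]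
        exact ⟨fun e => e.map H.subtype, fun e => Subtype.ext e.eq⟩
      obtain ⟨k, hk, hkA⟩ : ∃ k ∈ nz t', k ∉ cent t' := by
        by_contra hno
        push Not at hno
        rw [relIndex_eq_one.mpr hno] at he3
        omega
      have hle : cent t ≤ H := by
        refine cent_le_of_invariant hT hS hF hp ht (k := (k : G)) ?_ ?_ t'.2 k.2
        · exact (mem_nz_iff hC ht).mpr (((mem_nz_iff DH.abCent ht').mp hk).map H.subtype)
        · intro e
          exact hkA (hcentH ▸ e)
      have hcA : Nat.card ↥(cent t') = Nat.card ↥(cent t) := by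
        rw [hcentH]
        exact Nat.card_congr (subgroupOfEquivOfLe hle).toEquiv
      have he : (cent t').relIndex (nz t') = (cent t).relIndex (nz t) := by
        have := (D.facts hF ht).1
        omega
      have htop : H = ⊤ := by
        refine eq_top_of_card_eq H ?_
        rw [card_eq_of_data DH hFH ht', card_eq_of_data D hF ht, hcA, he]
      rw [htop]
      exact mem_top g
    · -- `H` is the normaliser of `C(t)`
      have hall : ∀ s v : ↥H, IsInv s → IsInv v → Commute s v := fun s v hs hv => by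
        by_contra hh
        exact hSH ⟨s, v, hs, hv, hh⟩
      have hHN : H ≤ nz t := fun h hh => (mem_nz_iff hC ht).mpr
        ((hall _ _ (ht'.conj ⟨h, hh⟩) ht').map H.subtype)
      obtain ⟨k, hkH, hkA⟩ : ∃ k ∈ H, k ∉ cent t := by
        by_contra hno
        push Not at hno
        obtain ⟨a, ha, b, hb, hab⟩ := hna
        exact hab (commute_of_mem_cent hC ht (hno a ha) (hno b hb))
      have hle := cent_le_of_invariant hT hS hF hp ht (hHN hkH) hkA t'.2 hkH
      have hmul := relIndex_mul_relIndex (cent t) H (nz t) hle hHN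
      have hne1 : (cent t).relIndex H ≠ 1 := fun e => hkA (relIndex_eq_one.mp e hkH)
      have h1 : H.relIndex (nz t) = 1 := by
        rcases (Nat.dvd_prime (hp t ht)).mp (Dvd.intro _ hmul) with e | e
        · exact absurd e hne1
        · rw [e] at hmul
          exact Nat.eq_of_mul_eq_mul_left (hp t ht).pos (hmul.trans (mul_one _).symm)
      have hnzH : nz t ≤ H := relIndex_eq_one.mp h1
      refine hnzH ((mem_nz_iff hC ht).mpr ?_)
      exact commute_of_mem_nz hC ht (ht.conj g) (hHN (hgH t t'.2))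
  -- a Sylow 2-subgroup of order two
  obtain ⟨P⟩ : Nonempty (Sylow 2 ↥H) := inferInstance
  have hPnt : Nontrivial ↥(P : Subgroup ↥H) := by
    rw [nontrivial_iff_ne_bot]
    intro e
    have h2 := P.dvd_card_of_dvd_card hodd.two_dvd
    rw [e, card_bot] at h2
    omega
  haveI := P.2.center_nontrivial
  obtain ⟨⟨⟨t', htP⟩, htc⟩, hto⟩ := exists_prime_orderOf_dvd_card'
    (G := ↥(center ↥(P : Subgroup ↥H))) 2 (by
      obtain ⟨n, hn0, hn⟩ := (P.2.to_subgroup (center ↥(P : Subgroup ↥H))).nontrivial_iff_card.mp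
        inferInstance
      exact hn ▸ dvd_pow_self 2 hn0.ne')
  rw [Subgroup.orderOf_mk, Subgroup.orderOf_mk] at hto
  have ht' : IsInv t' := isInv_iff.mpr hto
  set t : G := t'.1 with htdef
  have ht : IsInv t := ⟨congrArg Subtype.val ht'.1, fun e => ht'.2 (Subtype.ext e)⟩
  obtain ⟨-, hexp, -, -, -⟩ := D.facts hF ht
  have hPt : ∀ a ∈ (P : Subgroup ↥H), a = 1 ∨ a = t' := by
    intro a ha
    have hat : Commute a t' := congrArg Subtype.val (mem_center_iff.mp htc ⟨a, ha⟩)
    by_contra hno
    push Not at hno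
    have hai : IsInv a := ⟨Subtype.ext (hexp a (hat.map H.subtype)), hno.1⟩
    exact hFH ⟨a, t', hai, ht', hno.2, hat⟩
  haveI hPc : IsCyclic ↥(P : Subgroup ↥H) := by
    refine ⟨⟨⟨t', htP⟩, fun a => ?_⟩⟩
    rcases hPt a a.2 with e | e
    · exact ⟨0, Subtype.ext (by simp [e])⟩
    · exact ⟨1, Subtype.ext (by simp [e])⟩
  have hmin : (Nat.card ↥H).minFac = 2 := (Nat.minFac_eq_two_iff _).mpr hodd.two_dvd
  have hN := IsCyclic.normalizer_le_centralizer hmin hPc
  obtain ⟨K, hKn, hcompl⟩ : ∃ K : Subgroup ↥H, K.Normal ∧ K.IsComplement' (P : Subgroup ↥H) :=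
    ⟨_, MonoidHom.normal_ker _, MonoidHom.ker_transferSylow_isComplement' P hN⟩
  set O : Subgroup G := K.map H.subtype with hO
  have hOodd : Odd (Nat.card ↥O) := by
    rw [hO, ← Nat.card_congr (equivMapOfInjective _ H.subtype H.subtype_injective).toEquiv,
      ← hcompl.index_eq_card, ← Nat.not_even_iff_odd, even_iff_two_dvd]
    exact P.not_dvd_index
  have hOH : O ≤ H := map_subtype_le _
  have hOab : ∀ a ∈ O, ∀ b ∈ O, Commute a b := fun a ha b hb =>
    commute_of_not_nonAb (commute_of_odd hT hsign hcyc O hOodd) ha hb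
  have hHN : ∀ h ∈ H, ∀ a ∈ O, h * a * h⁻¹ ∈ O := by
    rintro h hh _ ⟨a, ha, rfl⟩
    exact ⟨(⟨h, hh⟩ : ↥H) * a * (⟨h, hh⟩ : ↥H)⁻¹, hKn.conj_mem a ha _, rfl⟩
  have hdec : ∀ h ∈ H, h ∈ O ∨ ∃ o ∈ O, h = o * t := by
    intro h hh
    obtain ⟨⟨o, s⟩, hos⟩ := hcompl.2 ⟨h, hh⟩
    have hval : ((o : ↥H) : G) * ((s : ↥H) : G) = h := congrArg Subtype.val hos
    rcases hPt s s.2 with e | e
    · refine Or.inl ⟨o, o.2, ?_⟩
      rw [← hval, e]
      simp
    · exact Or.inr ⟨_, ⟨o, o.2, rfl⟩, by rw [← hval, e]; rfl⟩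
  obtain ⟨z, hzO, hz1⟩ : ∃ z ∈ O, z ≠ 1 := by
    by_contra hno
    push Not at hno
    obtain ⟨a, ha, b, hb, hab⟩ := hna
    have hall : ∀ h ∈ H, h = 1 ∨ h = t := by
      intro h hh
      rcases hdec h hh with e | ⟨o, ho, rfl⟩
      · exact Or.inl (hno h e)
      · exact Or.inr (by rw [hno o ho, one_mul])
    rcases hall a ha with rfl | rfl
    · exact hab (Commute.one_left b)
    rcases hall b hb with rfl | rfl
    · exact hab (Commute.one_right _)
    · exact hab (Commute.refl _)
  have hzz := sq_ne_one_of_odd hOodd hzO hz1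
  have htz : ¬ Commute t z := by
    intro e
    obtain ⟨a, ha, b, hb, hab⟩ := hna
    have hall : ∀ h ∈ H, Commute h z := by
      intro h hh
      rcases hdec h hh with e' | ⟨o, ho, rfl⟩
      · exact hOab h e' z hzO
      · exact (hOab o ho z hzO).mul_left e
    exact hab (hT z a b hz1 (hall a ha) (hall b hb))
  have htinv : ∀ o ∈ O, t * o * t⁻¹ = o⁻¹ := by
    intro o ho
    rcases eq_or_ne o 1 with rfl | ho1
    · simp
    rcases hsign o t (sq_ne_one_of_odd hOodd ho ho1) (hOab _ (hHN t t'.2 o ho) o ho) with e | e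
    · exact absurd (hT o t z ho1 (mul_inv_eq_iff_eq_mul.mp e) (hOab z hzO o ho)) htz
    · exact e
  have hgz : g * z * g⁻¹ ∈ O := by
    rcases hdec _ (hgH z (hOH hzO)) with e | ⟨o, ho, hoe⟩
    · exact e
    exfalso
    refine hzz ?_
    have h1 : (g * z * g⁻¹) * (g * z * g⁻¹) = 1 := by
      rw [hoe]
      calc o * t * (o * t) = o * (t * o * t⁻¹) * (t * t) := by group
        _ = 1 := by rw [htinv o ho, ht.1, mul_inv_cancel, one_mul]
    calc z * z = g⁻¹ * ((g * z * g⁻¹) * (g * z * g⁻¹)) * g := by group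
      _ = 1 := by rw [h1]; group
  -- reduce to an element centralising `z`
  suffices ∀ c : G, (∀ a ∈ H, c * a * c⁻¹ ∈ H) → Commute c z → c ∈ H by
    rcases hsign z g hzz (hOab _ hgz z hzO) with e | e
    · exact this g hgH (mul_inv_eq_iff_eq_mul.mp e)
    · have h1 := this (g * t) (fun a ha => by
        rw [show g * t * a * (g * t)⁻¹ = g * (t * a * t⁻¹) * g⁻¹ by group]
        exact hgH _ (mul_mem (mul_mem t'.2 ha) (inv_mem t'.2))) (by
        apply mul_inv_eq_iff_eq_mul.mp
        calc g * t * z * (g * t)⁻¹ = g * (t * z * t⁻¹) * g⁻¹ := by group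
          _ = (g * z * g⁻¹)⁻¹ := by rw [htinv z hzO]; group
          _ = z := by rw [e, inv_inv])
      have h2 : g * t * t⁻¹ ∈ H := mul_mem h1 (inv_mem t'.2)
      rwa [mul_inv_cancel_right] at h2
  intro c hcH hcz
  rcases eq_or_ne c 1 with rfl | hc1
  · exact one_mem _
  have hcc : c * c ≠ 1 := fun e => hzz ((D.facts hF (t := c) ⟨e, hc1⟩).2.1 z hcz.symm)
  have hceq : t * c * t⁻¹ = c⁻¹ := by
    have h1 : Commute (t * c * t⁻¹) z := by
      have h2 := commute_conj t hcz
      rw [htinv z hzO] at h2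
      simpa using h2.inv_right
    rcases hsign c t hcc (hT z _ c hz1 h1 hcz) with e | e
    · exact absurd (hT c t z hc1 (mul_inv_eq_iff_eq_mul.mp e) hcz.symm) htz
    · exact e
  have hc2 : c * c ∈ H := by
    have h1 := mul_mem (hcH t t'.2) (inv_mem t'.2)
    have h2 : c * t * c⁻¹ * t⁻¹ = c * c := by
      calc c * t * c⁻¹ * t⁻¹ = c * (t * c * t⁻¹)⁻¹ := by group
        _ = c * c := by rw [hceq, inv_inv]
    rwa [h2] at h1
  have hcodd : Odd (orderOf c) := by
    rw [← Nat.not_even_iff_odd]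
    rintro ⟨i, hi⟩
    have hpos := orderOf_pos c
    have hw : IsInv (c ^ i) :=
      ⟨by rw [← pow_add, ← hi, pow_orderOf_eq_one], pow_ne_one_of_lt_orderOf (by omega) (by omega)⟩
    exact hzz ((D.facts hF hw).2.1 z (hcz.pow_left i).symm)
  obtain ⟨i, hi⟩ := hcodd
  have h3 : (c * c) ^ (i + 1) = c := by
    rw [← pow_two, ← pow_mul, show 2 * (i + 1) = orderOf c + 1 by omega, pow_succ,
      pow_orderOf_eq_one, one_mul]
  exact h3 ▸ pow_mem hc2 _

end Cfsg.Agent.Lib.SelfNormalizing
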