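import Mathlib
import Cfsg.Agent.Lib.SelfNormalizing.Converse
import Cfsg.Agent.Lib.AbelianInvCentralizer.SLTwo

/-!
# `SL(2, F)` in characteristic two and self-normalisation of its non-abelian subgroups

The property holds exactly when the number of non-zero field elements is prime.
-/

set_option autoImplicit false
set_option linter.style.haveILetI false
set_option linter.deprecated false

namespace Cfsg.Agent.Lib.SelfNormalizing

open Matrix Subgroup AbelianInvCentralizer
open scoped MatrixGroups

variable {F : Type*} [Field F] [CharP F 2]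

omit [CharP F 2] in
theorem sl_val_mul (a b : SpecialLinearGroup (Fin 2) F) :
    (a * b : SpecialLinearGroup (Fin 2) F).1 = a.1 * b.1 := rfl

omit [CharP F 2] in
theorem sl_val_inv (a : SpecialLinearGroup (Fin 2) F) :
    (a⁻¹ : SpecialLinearGroup (Fin 2) F).1 = Matrix.adjugate a.1 := rfl

omit [CharP F 2] in
theorem sl_val_one : (1 : SpecialLinearGroup (Fin 2) F).1 = 1 := rfl

/-- An element whose conjugate commutes with it is only inverted or fixed. -/
theorem slTwo_conj_sign {z h : SpecialLinearGroup (Fin 2) F} (hz : z * z ≠ 1)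
    (hc : Commute (h * z * h⁻¹) z) : h * z * h⁻¹ = z ∨ h * z * h⁻¹ = z⁻¹ := by
  set y := h * z * h⁻¹ with hy
  have h2 : (2 : F) = 0 := CharP.cast_eq_zero F 2
  obtain ⟨M, hM⟩ : ∃ M, M = (z : Matrix (Fin 2) (Fin 2) F) := ⟨_, rfl⟩
  obtain ⟨Y, hY⟩ : ∃ Y, Y = (y : Matrix (Fin 2) (Fin 2) F) := ⟨_, rfl⟩
  have hMdet : M.det = 1 := by rw [hM]; exact z.det_coe
  have hYdet : Y.det = 1 := by rw [hY]; exact y.det_coe
  have hinv : ((z⁻¹ : SpecialLinearGroup (Fin 2) F) : Matrix (Fin 2) (Fin 2) F) = M.adjugate := by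
    rw [hM, sl_val_inv]
  have htr : Y 0 0 + Y 1 1 = M 0 0 + M 1 1 := by
    have h1 : Y.trace = M.trace := by
      rw [hY, hy, hM, sl_val_mul, trace_mul_comm, ← sl_val_mul,
        show h⁻¹ * (h * z) = z by group]
    simpa [Matrix.trace, Fin.sum_univ_two] using h1
  have hcm : Y * M = M * Y := by
    rw [hY, hM]
    exact congrArg Subtype.val hc.eq
  have c00 := congrFun₂ hcm 0 0
  have c01 := congrFun₂ hcm 0 1
  have c10 := congrFun₂ hcm 1 0
  simp only [Matrix.mul_apply, Fin.sum_univ_two] at c00 c01 c10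
  rw [Matrix.det_fin_two] at hMdet hYdet
  -- `(Y - M) (Y - M⁻¹) = 0`
  have hprod : (Y - M) * (Y - M.adjugate) = 0 := by
    rw [Matrix.adjugate_fin_two]
    ext i j
    fin_cases i <;> fin_cases j <;>
      simp only [Matrix.mul_apply, Fin.sum_univ_two, Matrix.sub_apply, Fin.zero_eta, Fin.mk_one,
        Fin.isValue, Matrix.of_apply, Matrix.cons_val', Matrix.cons_val_zero, Matrix.cons_val_one,
        Matrix.empty_val', Matrix.cons_val_fin_one, Matrix.zero_apply]
    · linear_combination (Y 0 0) * htr + hMdet - hYdet + c00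
    · linear_combination (Y 0 1) * htr + c01
    · linear_combination (Y 1 0) * htr + c10
    · linear_combination (Y 1 1) * htr + hMdet - hYdet - c00
  by_cases hdet : (Y - M).det = 0
  · refine Or.inl ?_
    set w := y * z⁻¹ with hw
    have hwz : Commute w z := hc.mul_left (Commute.refl z).inv_left
    rw [← mul_inv_eq_one, ← hw]
    by_contra hw1
    have hW : ((w : SpecialLinearGroup (Fin 2) F) : Matrix (Fin 2) (Fin 2) F) = Y * M.adjugate := by
      rw [hw, sl_val_mul, hinv, hY]
    have hwtr : (w : Matrix (Fin 2) (Fin 2) F) 0 0 + (w : Matrix (Fin 2) (Fin 2) F) 1 1 = 0 := by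
      rw [hW, Matrix.adjugate_fin_two]
      rw [Matrix.det_fin_two] at hdet
      simp only [Matrix.mul_apply, Fin.sum_univ_two, Matrix.sub_apply, Fin.isValue,
        Matrix.of_apply, Matrix.cons_val', Matrix.cons_val_zero, Matrix.cons_val_one,
        Matrix.empty_val', Matrix.cons_val_fin_one] at hdet ⊢
      linear_combination (-1 : F) * hdet + hYdet + hMdet + h2
    have hwdet := w.det_coe
    rw [Matrix.det_fin_two] at hwdet
    have hww : w * w = 1 := by
      refine Subtype.ext ?_
      show (w : Matrix (Fin 2) (Fin 2) F) * (w : Matrix (Fin 2) (Fin 2) F) = 1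
      set W := (w : Matrix (Fin 2) (Fin 2) F) with hWdef
      ext i j
      fin_cases i <;> fin_cases j <;>
        simp only [Matrix.mul_apply, Fin.sum_univ_two, Fin.zero_eta, Fin.mk_one, Fin.isValue,
          Matrix.one_apply_eq, Matrix.one_apply_ne, ne_eq, zero_ne_one, one_ne_zero, not_false_iff]
      · linear_combination (W 0 0) * hwtr - hwdet - h2
      · linear_combination (W 0 1) * hwtr
      · linear_combination (W 1 0) * hwtr
      · linear_combination (W 1 1) * hwtr - hwdet + (-1 : F) * h2
    -- `z` commutes with the involution `w`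
    have hzz : z * z = 1 := by
      set W := (w : Matrix (Fin 2) (Fin 2) F) with hWdef
      have hWM : W * M = M * W := by
        rw [hWdef, hM]
        exact congrArg Subtype.val hwz.eq
      have d00 := congrFun₂ hWM 0 0
      have d01 := congrFun₂ hWM 0 1
      have d10 := congrFun₂ hWM 1 0
      simp only [Matrix.mul_apply, Fin.sum_univ_two] at d00 d01 d10
      have hd : W 0 0 = W 1 1 := by linear_combination hwtr - (W 1 1) * h2
      have hd0 : M 0 0 + M 1 1 = 0 := by
        rcases slTwo_nonscalar hw1 with hq | hr | hne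
        · refine (mul_eq_zero.mp (?_ : W 0 1 * (M 0 0 + M 1 1) = 0)).resolve_left hq
          linear_combination d01 + (W 0 1 * M 0 0) * h2 - (M 0 1) * hd
        · refine (mul_eq_zero.mp (?_ : W 1 0 * (M 0 0 + M 1 1) = 0)).resolve_left hr
          linear_combination d10 + (W 1 0 * M 1 1) * h2 + (M 1 0) * hd
        · exact absurd hd hne
      refine Subtype.ext ?_
      show (z : Matrix (Fin 2) (Fin 2) F) * (z : Matrix (Fin 2) (Fin 2) F) = 1
      rw [← hM]
      ext i j
      fin_cases i <;> fin_cases j <;>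
        simp only [Matrix.mul_apply, Fin.sum_univ_two, Fin.zero_eta, Fin.mk_one, Fin.isValue,
          Matrix.one_apply_eq, Matrix.one_apply_ne, ne_eq, zero_ne_one, one_ne_zero, not_false_iff]
      · linear_combination (M 0 0) * hd0 - hMdet + (-1 : F) * h2
      · linear_combination (M 0 1) * hd0
      · linear_combination (M 1 0) * hd0
      · linear_combination (M 1 1) * hd0 - hMdet + (-1 : F) * h2
    exact hz hzz
  · refine Or.inr (Subtype.ext ?_)
    have hu : IsUnit (Y - M) := (Matrix.isUnit_iff_isUnit_det _).mpr (isUnit_iff_ne_zero.mpr hdet)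
    have h1 : Y - M.adjugate = 0 := hu.mul_left_cancel (by rw [hprod, mul_zero])
    rw [sub_eq_zero] at h1
    rw [hinv, ← h1, hY]

/-- The transvection. -/
def trv (b : F) : SpecialLinearGroup (Fin 2) F :=
  ⟨!![1, b; 0, 1], by simp [Matrix.det_fin_two]⟩

/-- The lower transvection. -/
def trvLow (b : F) : SpecialLinearGroup (Fin 2) F :=
  ⟨!![1, 0; b, 1], by simp [Matrix.det_fin_two]⟩

omit [CharP F 2] in
theorem trv_val (b : F) : (trv b).1 = !![1, b; 0, 1] := rfl

omit [CharP F 2] in
theorem trvLow_val (b : F) : (trvLow b).1 = !![1, 0; b, 1] := rfl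

omit [CharP F 2] in
theorem trv_mul (a b : F) : trv a * trv b = trv (a + b) := by
  refine Subtype.ext (Matrix.ext fun i j => ?_)
  fin_cases i <;> fin_cases j <;> simp [trv_val, sl_val_mul, Matrix.mul_apply, Fin.sum_univ_two, add_comm]

theorem isInv_trv {b : F} (hb : b ≠ 0) : IsInv (trv b) := by
  refine ⟨?_, fun h => hb ?_⟩
  · rw [trv_mul, CharTwo.add_self_eq_zero]
    refine Subtype.ext (Matrix.ext fun i j => ?_)
    fin_cases i <;> fin_cases j <;> simp [trv_val, sl_val_one]
  · simpa [trv_val, sl_val_one] using congrFun₂ (congrArg Subtype.val h) 0 1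

theorem mem_cent_trv {g : SpecialLinearGroup (Fin 2) F} (hg : g ∈ cent (trv (1 : F))) :
    g = trv ((g : Matrix (Fin 2) (Fin 2) F) 0 1) := by
  have h := congrArg Subtype.val (mem_cent.mp hg).eq
  rw [sl_val_mul, sl_val_mul] at h
  have e00 := congrFun₂ h 0 0
  have e01 := congrFun₂ h 0 1
  simp [trv_val, Matrix.mul_apply, Fin.sum_univ_two] at e00 e01
  have hd := g.det_coe
  rw [Matrix.det_fin_two] at hd
  have hd' : (g : Matrix (Fin 2) (Fin 2) F) 0 0 ^ 2 = 1 := by
    linear_combination hd + ((g : Matrix (Fin 2) (Fin 2) F) 0 0) * e01 +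
      ((g : Matrix (Fin 2) (Fin 2) F) 0 1) * e00
  have h1 : (g : Matrix (Fin 2) (Fin 2) F) 0 0 = 1 := by
    rcases sq_eq_one_iff.mp hd' with h1 | h1
    · exact h1
    · rwa [CharTwo.neg_eq] at h1
  refine Subtype.ext (Matrix.ext fun i j => ?_)
  fin_cases i <;> fin_cases j <;> simp [trv_val, h1, e00]
  · linear_combination (-1 : F) * e01 + h1

theorem hasSpread_slTwo : HasSpread (SpecialLinearGroup (Fin 2) F) := by
  refine ⟨trv 1, trvLow 1, isInv_trv one_ne_zero, ⟨?_, fun h => ?_⟩, fun h => ?_⟩
  · refine Subtype.ext (Matrix.ext fun i j => ?_)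
    fin_cases i <;> fin_cases j <;>
      simp [trvLow_val, sl_val_mul, sl_val_one, Matrix.mul_apply, Fin.sum_univ_two, CharTwo.add_self_eq_zero]
  · simpa [trvLow_val, sl_val_one] using congrFun₂ (congrArg Subtype.val h) 1 0
  · simpa [trv_val, trvLow_val, sl_val_mul, Matrix.mul_apply, Fin.sum_univ_two] using
      congrFun₂ (congrArg Subtype.val h.eq) 0 0

variable [Fintype F]

theorem hasFour_slTwo (hF : 2 < Fintype.card F) : HasFour (SpecialLinearGroup (Fin 2) F) := by
  classical
  obtain ⟨x, -, hx⟩ := Finset.exists_mem_notMem_of_card_lt_card (s := {(0 : F), 1})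
    (t := (Finset.univ : Finset F)) (lt_of_le_of_lt Finset.card_le_two (by rwa [Finset.card_univ]))
  simp only [Finset.mem_insert, Finset.mem_singleton, not_or] at hx
  refine ⟨trv 1, trv x, isInv_trv one_ne_zero, isInv_trv hx.1, fun h => hx.2 ?_, ?_⟩
  · simpa [trv_val] using (congrFun₂ (congrArg Subtype.val h) 0 1).symm
  · show trv 1 * trv x = trv x * trv 1
    rw [trv_mul, trv_mul, add_comm]

theorem card_cent_trv : Nat.card ↥(cent (trv (1 : F))) = Fintype.card F := by
  rw [← Nat.card_eq_fintype_card]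
  refine (Nat.card_eq_of_bijective
    (fun b : F => (⟨trv b, mem_cent.mpr (by show trv b * trv 1 = trv 1 * trv b
                                            rw [trv_mul, trv_mul, add_comm])⟩ :
      ↥(cent (trv (1 : F))))) ⟨?_, ?_⟩).symm
  · intro a b h
    simpa [trv_val] using congrFun₂ (congrArg Subtype.val (congrArg Subtype.val h)) 0 1
  · intro g
    exact ⟨_, Subtype.ext (mem_cent_trv g.2).symm⟩

/-- If the non-zero elements form a group of prime order, the property holds. -/
theorem hsn_slTwo (hF : 2 < Fintype.card F) (hp : (Fintype.card F - 1).Prime) :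
    HSN (SpecialLinearGroup (Fin 2) F) := by
  have hT : CommTrans (SpecialLinearGroup (Fin 2) F) :=
    fun z g h hz hg hh => slTwo_commute_trans hz hg hh
  have hS := hasSpread_slTwo (F := F)
  have hF4 := hasFour_slTwo hF
  have D := hT.data hS
  refine hsn_of_trans hT hS hF4 (fun t ht => ?_) (fun z h => slTwo_conj_sign)
    fun R hodd hab => slTwo_isCyclic_of_odd R hodd hab
  obtain ⟨g, hg⟩ := exists_conj D.abCent D.spread (isInv_trv (one_ne_zero (α := F))) ht
  have hA : Nat.card ↥(cent t) = Fintype.card F := by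
    rw [← hg, cent_conj, ← card_cent_trv]
    exact (Nat.card_congr
      ((cent (trv (1 : F))).equivMapOfInjective _ (MulAut.conj g).injective).toEquiv).symm
  have := (D.facts hF4 ht).1
  rwa [show (cent t).relIndex (nz t) = Fintype.card F - 1 by omega]

/-- The Borel subgroup belonging to a subgroup of the multiplicative group. -/
def borelSub (K : Subgroup Fˣ) : Subgroup (SpecialLinearGroup (Fin 2) F) where
  carrier := {g | (g : Matrix (Fin 2) (Fin 2) F) 1 0 = 0 ∧
    ∃ k ∈ K, (g : Matrix (Fin 2) (Fin 2) F) 0 0 = k}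
  one_mem' := ⟨by simp, 1, one_mem _, by simp⟩
  mul_mem' := by
    rintro a b ⟨ha, k, hk, hak⟩ ⟨hb, l, hl, hbl⟩
    refine ⟨?_, k * l, mul_mem hk hl, ?_⟩
    · simp [sl_val_mul, Matrix.mul_apply, Fin.sum_univ_two, ha, hb]
    · simp [sl_val_mul, Matrix.mul_apply, Fin.sum_univ_two, hb, hak, hbl]
  inv_mem' := by
    rintro a ⟨ha, k, hk, hak⟩
    refine ⟨by simp [sl_val_inv, Matrix.adjugate_fin_two, ha], k⁻¹, inv_mem hk, ?_⟩
    have hd := a.det_coe
    rw [Matrix.det_fin_two, ha, mul_zero, sub_zero, hak] at hd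
    simp [sl_val_inv, Matrix.adjugate_fin_two]
    exact eq_inv_of_mul_eq_one_right hd

/-- The diagonal element. -/
def diagEl (k : Fˣ) : SpecialLinearGroup (Fin 2) F :=
  ⟨!![(k : F), 0; 0, ((k⁻¹ : Fˣ) : F)], by simp [Matrix.det_fin_two]⟩

omit [CharP F 2] [Fintype F] in
theorem diagEl_val (k : Fˣ) : (diagEl k).1 = !![(k : F), 0; 0, ((k⁻¹ : Fˣ) : F)] := rfl

/-- Conversely the property forces the number of non-zero elements to be prime. -/
theorem prime_of_hsn_slTwo (hF : 2 < Fintype.card F) (h : HSN (SpecialLinearGroup (Fin 2) F)) :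
    (Fintype.card F - 1).Prime := by
  classical
  haveI : Nontrivial Fˣ := by
    rw [← Fintype.one_lt_card_iff_nontrivial, Fintype.card_units]
    omega
  haveI : IsSimpleGroup Fˣ := by
    refine IsSimpleGroup.mk fun K _ => ?_
    by_contra hno
    push Not at hno
    obtain ⟨k, hk, hk1⟩ := (bot_or_exists_ne_one K).resolve_left hno.1
    have hd : diagEl k ∈ borelSub K := ⟨by simp [diagEl_val], k, hk, by simp [diagEl_val]⟩
    have ht : trv (1 : F) ∈ borelSub K := ⟨by simp [trv_val], 1, one_mem _, by simp [trv_val]⟩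
    have hna : NonAb (borelSub K) := by
      refine ⟨_, hd, _, ht, fun hc => hk1 ?_⟩
      have e : (k : F) = ((k⁻¹ : Fˣ) : F) := by
        simpa [diagEl_val, trv_val, sl_val_mul, Matrix.mul_apply, Fin.sum_univ_two] using
          congrFun₂ (congrArg Subtype.val hc.eq) 0 1
      have e2 : (k : F) ^ 2 = 1 := by
        rw [pow_two]
        nth_rw 2 [e]
        simp
      refine Units.ext ?_
      rcases sq_eq_one_iff.mp e2 with e3 | e3
      · exact e3
      · rw [CharTwo.neg_eq] at e3
        exact e3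
    refine hno.2 (eq_top_iff.mpr fun l _ => ?_)
    have hl : diagEl l ∈ normalizer (borelSub K : Set (SpecialLinearGroup (Fin 2) F)) := by
      rw [mem_normalizer_iff]
      intro g
      show (_ = 0 ∧ ∃ k ∈ K, _ = _) ↔ (_ = 0 ∧ ∃ k ∈ K, _ = _)
      simp [diagEl_val, sl_val_mul, sl_val_inv, Matrix.adjugate_fin_two, Matrix.mul_apply,
        Fin.sum_univ_two, mul_comm, mul_assoc, mul_left_comm]
    rw [h _ hna] at hl
    obtain ⟨-, k', hk', hlk⟩ := hl
    have : l = k' := Units.ext (by simpa [diagEl_val] using hlk)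
    exact this ▸ hk'
  have hpr := IsSimpleGroup.prime_card (α := Fˣ)
  rwa [Nat.card_eq_fintype_card, Fintype.card_units] at hpr

omit [CharP F 2] [Fintype F] in
/-- A field isomorphism gives an isomorphism of the special linear groups. -/
theorem nonempty_slTwo_congr {K : Type*} [Field K] (σ : F ≃+* K) :
    Nonempty (SpecialLinearGroup (Fin 2) F ≃* SpecialLinearGroup (Fin 2) K) :=
  ⟨{ toFun := SpecialLinearGroup.map σ.toRingHom
     invFun := SpecialLinearGroup.map σ.symm.toRingHom
     left_inv := fun x => Subtype.ext (Matrix.ext fun i j => σ.symm_apply_apply _)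
     right_inv := fun x => Subtype.ext (Matrix.ext fun i j => σ.apply_symm_apply _)
     map_mul' := map_mul _ }⟩

omit [Fintype F] in
/-- In characteristic two `PSL` and `SL` agree. -/
theorem nonempty_slTwo_psl :
    Nonempty (ProjectiveSpecialLinearGroup (Fin 2) F ≃* SpecialLinearGroup (Fin 2) F) :=
  ⟨(QuotientGroup.quotientMulEquivOfEq slTwo_center_eq_bot).trans QuotientGroup.quotientBot⟩

end Cfsg.Agent.Lib.SelfNormalizing
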